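import Mathlib.RingTheory.Valuation.LocalSubring
import Mathlib.RingTheory.Polynomial.Basic
import Mathlib.RingTheory.PicardGroup
import Mathlib.RingTheory.EuclideanDomain
import Mathlib.FieldTheory.RatFunc.Basic

/-!
# Invertible ideals of a normal domain with a contraction `A → A[t]` are principal
-/

universe u

open Polynomial

namespace PicCone27

section Kronecker

variable {A : Type u} [CommRing A] [IsDomain A] [IsIntegrallyClosed A] {K : Type u} [Field K] [Algebra A K]
  [IsFractionRing A K]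

/-- Products of coefficients of the factors of a polynomial over a normal domain lie in the domain. -/
theorem coeff_mul_coeff_mem (f g : K[X]) (h : ∀ m, (f * g).coeff m ∈ (algebraMap A K).range) (i j : ℕ) :
    f.coeff i * g.coeff j ∈ (algebraMap A K).range := by
  classical
  have hint : IsIntegrallyClosedIn (algebraMap A K).range K := by
    rw [Subring.isIntegrallyClosedIn_iff]
    intro x hx
    have : IsIntegral A x := by
      obtain ⟨p, hp, hpx⟩ := hx
      obtain ⟨q, hq, -, hqm⟩ := Polynomial.lifts_and_natDegree_eq_and_monic (f := (algebraMap A K).rangeRestrict)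
        (p.lifts_iff_coeff_lifts.2 fun m => (algebraMap A K).rangeRestrict_surjective _) hp
      refine ⟨q, hqm, ?_⟩
      rw [← hq, Polynomial.eval₂_map] at hpx
      exact hpx
    exact IsIntegrallyClosed.isIntegral_iff.1 this
  haveI := hint
  rw [Subring.eq_iInf_of_isIntegrallyClosedIn (R := (algebraMap A K).range), Subring.mem_iInf]
  rintro ⟨V, hV⟩
  show f.coeff i * g.coeff j ∈ V
  rw [← ValuationSubring.valuation_le_one_iff]
  set v := V.valuation
  by_cases hf : f = 0
  · simp [hf]
  by_cases hg : g = 0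
  · simp [hg]
  have hmax : ∀ p : K[X], p ≠ 0 → ∃ a, (∀ m, v (p.coeff m) ≤ v (p.coeff a)) ∧
      (∀ m, m < a → v (p.coeff m) < v (p.coeff a)) ∧ p.coeff a ≠ 0 := by
    intro p hp
    obtain ⟨b, hb, hbm⟩ := p.support.exists_max_image (fun m => v (p.coeff m)) (by simpa using hp)
    have hbm' : ∀ m, v (p.coeff m) ≤ v (p.coeff b) := fun m => by
      by_cases hm : m ∈ p.support
      · exact hbm m hm
      · simp [Polynomial.notMem_support_iff.1 hm]
    have hex : ∃ a, v (p.coeff b) ≤ v (p.coeff a) := ⟨b, le_rfl⟩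
    refine ⟨Nat.find hex, fun m => (hbm' m).trans (Nat.find_spec hex), fun m hm => ?_, fun h0 => ?_⟩
    · exact lt_of_lt_of_le (not_le.1 (Nat.find_min hex hm)) (Nat.find_spec hex)
    · have := Nat.find_spec hex
      rw [h0, map_zero, nonpos_iff_eq_zero, map_eq_zero] at this
      exact Polynomial.mem_support_iff.1 hb this
  obtain ⟨a, ha, ha', ha0⟩ := hmax f hf
  obtain ⟨b, hb, hb', hb0⟩ := hmax g hg
  have hsum : v ((f * g).coeff (a + b)) = v (f.coeff a * g.coeff b) := by
    rw [Polynomial.coeff_mul]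
    refine Valuation.map_sum_eq_of_lt v (f := fun x : ℕ × ℕ => f.coeff x.1 * g.coeff x.2) (j := (a, b))
      (Finset.mem_antidiagonal.2 rfl) fun x hx => ?_
    rw [Finset.mem_sdiff, Finset.mem_antidiagonal, Finset.mem_singleton] at hx
    rw [map_mul, map_mul]
    rcases lt_trichotomy x.1 a with h1 | h1 | h1
    · exact mul_lt_mul_of_lt_of_le_of_nonneg_of_pos (ha' _ h1) (hb _) zero_le'
        ((Valuation.pos_iff v).2 hb0)
    · exact absurd (Prod.ext h1 (by omega)) hx.2
    · exact (mul_le_mul_of_nonneg_right (ha _) zero_le').trans_lt (mul_lt_mul_of_pos_left (hb' _ (by omega))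
        ((Valuation.pos_iff v).2 ha0))
  have h2 : v (f.coeff a * g.coeff b) ≤ 1 := by
    rw [← hsum, ValuationSubring.valuation_le_one_iff]
    exact hV (h _)
  refine le_trans ?_ h2
  rw [map_mul, map_mul]
  exact mul_le_mul' (ha i) (hb j)

end Kronecker

section Main

variable {A : Type u} [CommRing A] [IsDomain A] [IsIntegrallyClosed A]

/-- An invertible ideal of a normal domain with a grading into a field in degree zero is principal. -/
theorem exists_span_singleton (φ : A →+* A[X]) (h1 : ∀ a, (φ a).eval 1 = a)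
    (hunit : ∀ a, (φ a).coeff 0 = 0 ∨ IsUnit ((φ a).coeff 0))
    (hhom : ∀ a i, φ ((φ a).coeff i) = C ((φ a).coeff i) * X ^ i)
    (L : Ideal A) [Module.Projective A L] [Module.Finite A L] : ∃ x ∈ L, L = Ideal.span {x} := by
  classical
  rcases eq_or_ne L ⊥ with hL | hL
  · exact ⟨0, zero_mem _, by rw [hL, Ideal.span_singleton_eq_bot.2 rfl]⟩
  obtain ⟨N, p, q, -, -, hpq⟩ := Module.Finite.exists_comp_eq_id_of_projective A L
  obtain ⟨s₀, hs₀, hs⟩ := Submodule.exists_mem_ne_zero_of_ne_bot hL
  let l : Fin N → A := fun n => (p (Pi.single n 1) : A)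
  let z : Fin N → A := fun n => q ⟨s₀, hs₀⟩ n
  let w : Fin N → L → A := fun n x => q x n
  have hcomm : ∀ (n : Fin N) (x : L), z n * (x : A) = s₀ * w n x := fun n x => by
    have : (x : A) • (⟨s₀, hs₀⟩ : L) = s₀ • x := Subtype.ext (by simp [mul_comm])
    have h2 := congrFun (congrArg q this) n
    simp only [map_smul, Pi.smul_apply, smul_eq_mul] at h2
    rw [mul_comm]
    exact h2
  have hexp : ∀ x : L, (x : A) = ∑ n, w n x * l n := fun x => by
    conv_lhs => rw [← LinearMap.id_apply (R := A) x, ← hpq, LinearMap.comp_apply, pi_eq_sum_univ' (q x)]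
    simp [map_sum, l, w]
  have hsl : s₀ = ∑ n, z n * l n := hexp ⟨s₀, hs₀⟩
  have hlm : ∀ n, l n ∈ L := fun n => (p (Pi.single n 1)).2
  let K := FractionRing A
  let ι' := algebraMap A K
  have hι : Function.Injective ι' := IsFractionRing.injective A K
  let Φ : A →+* K[X] := (Polynomial.mapRingHom ι').comp φ
  have hΦcoeff : ∀ a i, (Φ a).coeff i = ι' ((φ a).coeff i) := fun a i => Polynomial.coeff_map _ _
  have hΦ1 : ∀ a, (Φ a).eval 1 = ι' a := fun a => by
    show ((φ a).map ι').eval 1 = _
    rw [Polynomial.eval_one_map, h1]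
  have hΦinj : ∀ a, Φ a = 0 → a = 0 := fun a h => hι (by rw [← hΦ1, h, Polynomial.eval_zero, map_zero])
  let J : Ideal K[X] := Ideal.span (Set.range fun n => Φ (l n))
  obtain ⟨f, hf⟩ := (IsPrincipalIdealRing.principal J).principal
  change J = Ideal.span {f} at hf
  have hdvd : ∀ n, ∃ lam, Φ (l n) = f * lam := fun n => by
    have : Φ (l n) ∈ J := Ideal.subset_span ⟨n, rfl⟩
    rw [hf, Ideal.mem_span_singleton] at this
    exact this
  choose lam hlam using hdvd
  have hf0 : f ≠ 0 := by
    rintro rfl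
    refine hs ?_
    rw [hsl]
    refine Finset.sum_eq_zero fun n _ => ?_
    rw [hΦinj (l n) (by rw [hlam, zero_mul]), mul_zero]
  obtain ⟨c, hc⟩ := Submodule.mem_span_range_iff_exists_fun _ |>.1 (show f ∈ J by
    rw [hf]; exact Ideal.mem_span_singleton_self f)
  have hsum1 : ∑ n, c n * lam n = 1 := by
    refine mul_left_cancel₀ hf0 ?_
    rw [Finset.mul_sum, mul_one]
    conv_rhs => rw [← hc]
    exact Finset.sum_congr rfl fun n _ => by rw [smul_eq_mul, hlam]; ring
  let μ : Fin N → K[X] := fun n => ∑ m, c m * Φ (w n ⟨l m, hlm m⟩)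
  have hμ : ∀ n m, μ n * lam m = Φ (w n ⟨l m, hlm m⟩) := by
    intro n m
    have hz : ∀ m, Φ (z n) * (f * lam m) = Φ s₀ * Φ (w n ⟨l m, hlm m⟩) := fun m => by
      rw [← hlam, ← map_mul, ← map_mul, ← hcomm n ⟨l m, hlm m⟩]
    have hzf : Φ (z n) * f = Φ s₀ * μ n := by
      calc Φ (z n) * f = ∑ m, c m * (Φ (z n) * (f * lam m)) := by
            rw [← mul_one (Φ (z n) * f), ← hsum1, Finset.mul_sum]
            exact Finset.sum_congr rfl fun m _ => by ring
        _ = _ := by
            rw [Finset.mul_sum]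
            exact Finset.sum_congr rfl fun m _ => by rw [hz]; ring
    refine mul_left_cancel₀ (fun h => hs (hΦinj _ h) : Φ s₀ ≠ 0) ?_
    rw [← mul_assoc, ← hzf, mul_assoc]
    exact hz m
  have hμlam : ∑ n, μ n * lam n = 1 := by
    refine mul_left_cancel₀ (mul_ne_zero hf0 (fun h => hs (hΦinj _ h) : Φ s₀ ≠ 0)) ?_
    rw [Finset.mul_sum, mul_one]
    calc ∑ n, f * Φ s₀ * (μ n * lam n) = ∑ n, f * (Φ (z n) * (f * lam n)) := by
          refine Finset.sum_congr rfl fun n _ => ?_
          rw [hμ, ← hlam, mul_assoc, ← map_mul, ← map_mul, ← hcomm n ⟨l n, hlm n⟩]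
      _ = f * Φ s₀ := by
          rw [← Finset.mul_sum]
          congr 1
          rw [hsl, map_sum]
          exact Finset.sum_congr rfl fun n _ => by rw [map_mul, hlam]
  -- coefficients allowed
  let IsA : K → Prop := fun d => ∀ n i, (μ n).coeff i * d ∈ ι'.range
  have hlamA : ∀ m j, IsA ((lam m).coeff j) := fun m j n i =>
    coeff_mul_coeff_mem _ _ (fun r => by rw [hμ]; exact ⟨_, (hΦcoeff _ r).symm⟩) i j
  have hexpA : ∀ d, IsA d → ∃ P : Fin N → A[X], C d * f = ∑ n, (P n).map ι' * Φ (l n) := by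
    intro d hd
    have : ∀ n, μ n * C d ∈ Polynomial.lifts ι' := fun n => by
      rw [Polynomial.lifts_iff_coeff_lifts]
      intro i
      rw [Polynomial.coeff_mul_C]
      exact hd n i
    choose P hP using this
    refine ⟨P, ?_⟩
    rw [← mul_one (C d * f), ← hμlam, Finset.mul_sum]
    refine Finset.sum_congr rfl fun n _ => ?_
    rw [show (P n).map ι' = μ n * C d from hP n, hlam]
    ring
  set e := f.natTrailingDegree
  set g0 := f.coeff e
  have hg0 : g0 ≠ 0 := Polynomial.trailingCoeff_nonzero_iff_nonzero.2 hf0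
  set f1 := f.eval 1 with hf1def
  have hf10 : f1 ≠ 0 := by
    intro h
    refine hs (hι ?_)
    rw [hsl, map_sum, map_zero]
    refine Finset.sum_eq_zero fun n _ => ?_
    rw [map_mul, ← hΦ1 (l n), hlam, Polynomial.eval_mul, ← hf1def, h, zero_mul, mul_zero]
  let h : Fin N → A := fun n => (φ (l n)).coeff e
  have hcoeffe : ∀ P : K[X], (P * f).coeff e = P.coeff 0 * g0 := by
    intro P
    rw [Polynomial.coeff_mul]
    refine (Finset.sum_eq_single (0, e) (fun x hx hne => ?_) (fun hn => absurd (Finset.mem_antidiagonal.2 (zero_add e)) hn)).trans rfl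
    rw [Finset.mem_antidiagonal] at hx
    refine mul_eq_zero_of_right _ (Polynomial.coeff_eq_zero_of_lt_natTrailingDegree ?_)
    rcases x with ⟨a, b⟩
    rcases Nat.eq_zero_or_pos a with rfl | hapos
    · simp only [zero_add] at hx; exact absurd (by rw [hx]) hne
    · simp only at hx ⊢; omega
  have hh : ∀ n, ι' (h n) = (lam n).coeff 0 * g0 := fun n => by
    rw [← hΦcoeff, hlam, mul_comm f, hcoeffe]
  have hd : ∀ d, IsA d → ∃ P : Fin N → A[X], d * g0 = ι' (∑ n, (P n).coeff 0 * h n) ∧
      d * f1 = ι' (∑ n, (P n).eval 1 * l n) := by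
    intro d hd
    obtain ⟨P, hP⟩ := hexpA d hd
    refine ⟨P, ?_, ?_⟩
    · have := congrArg (fun r => Polynomial.coeff r e) hP
      simp only [Polynomial.finset_sum_coeff] at this
      rw [hcoeffe, Polynomial.coeff_C_zero] at this
      rw [this, map_sum]
      refine Finset.sum_congr rfl fun n _ => ?_
      rw [map_mul, hh, hlam, ← mul_assoc, mul_comm ((P n).map ι') f, mul_assoc, mul_comm f, hcoeffe,
        Polynomial.mul_coeff_zero, Polynomial.coeff_map]
      ring
    · have := congrArg (Polynomial.eval (1 : K)) hP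
      rw [Polynomial.eval_mul, Polynomial.eval_C, ← hf1def, Polynomial.eval_finsetSum] at this
      rw [this, map_sum]
      exact Finset.sum_congr rfl fun n _ => by rw [Polynomial.eval_mul, Polynomial.eval_one_map, hΦ1, map_mul]
  -- `l n / f1` is an allowed coefficient
  have hlA : ∀ n, IsA (ι' (l n) / f1) := fun n m i => by
    rw [← hΦ1, hlam, Polynomial.eval_mul, ← hf1def, mul_div_cancel_left₀ _ hf10, Polynomial.eval_eq_sum,
      Polynomial.sum, Finset.mul_sum]
    exact Subring.sum_mem _ fun j _ => by rw [one_pow, mul_one]; exact hlamA n j m i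
  choose P hPg hPf using fun n => hd _ (hlA n)
  let y : Fin N → A := fun m => ∑ n, z n * (P n m).coeff 0
  have hy : ∀ m j, ∃ b, ι' (y m) * ι' (h j) = ι' s₀ * g0 / f1 * ι' b := by
    intro m j
    obtain ⟨Q, hQg, hQf⟩ := hd _ (hlamA j 0)
    -- the preimage of `h j` in `L`
    let x : L := ⟨∑ n, (Q n).eval 1 * l n, L.sum_mem fun n _ => L.mul_mem_left _ (hlm n)⟩
    refine ⟨∑ n, (P n m).coeff 0 * w n x, ?_⟩
    have hx : (lam j).coeff 0 * f1 = ι' (x : A) := hQf
    rw [hh, map_sum, map_sum, Finset.sum_mul, Finset.mul_sum]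
    refine Finset.sum_congr rfl fun n _ => ?_
    rw [map_mul, map_mul]
    have h2 := congrArg ι' (hcomm n x)
    rw [map_mul, map_mul, ← hx] at h2
    rw [div_mul_eq_mul_div, eq_div_iff hf10]
    linear_combination g0 * ι' ((P n m).coeff 0) * h2
  choose b hb using hy
  set s' := ι' s₀ * g0 / f1 with hs'
  have hs'0 : s' ≠ 0 := div_ne_zero (mul_ne_zero (fun h => hs (hι (by rw [h, map_zero]))) hg0) hf10
  have hsumy : ∑ m, ι' (y m) * ι' (h m) = s' := by
    calc ∑ m, ι' (y m) * ι' (h m) = ∑ n, ι' (z n) * ι' (∑ m, (P n m).coeff 0 * h m) := by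
          simp only [y, map_sum, map_mul, Finset.sum_mul, Finset.mul_sum]
          rw [Finset.sum_comm]
          exact Finset.sum_congr rfl fun _ _ => Finset.sum_congr rfl fun _ _ => by ring
      _ = ∑ n, ι' (z n) * (ι' (l n) / f1 * g0) := Finset.sum_congr rfl fun n _ => by rw [hPg]
      _ = s' := by
          rw [hs', hsl, map_sum, div_eq_mul_inv, mul_assoc, Finset.sum_mul]
          exact Finset.sum_congr rfl fun n _ => by rw [map_mul, div_eq_mul_inv]; ring
  have hone : ∑ m, b m m = 1 := by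
    refine hι (mul_left_cancel₀ hs'0 ?_)
    rw [map_one, mul_one, map_sum, Finset.mul_sum]
    exact (Finset.sum_congr rfl fun m _ => (hb m m).symm).trans hsumy
  obtain ⟨i, hi⟩ : ∃ i, IsUnit ((φ (b i i)).coeff 0) := by
    by_contra hcon
    simp only [not_exists] at hcon
    have := congrArg (fun r => (φ r).coeff 0) hone
    simp only [map_sum, map_one, Polynomial.finset_sum_coeff, Polynomial.coeff_one_zero] at this
    rw [Finset.sum_eq_zero fun m _ => (hunit _).resolve_right (hcon m)] at this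
    exact zero_ne_one this
  have hcross : ∀ j, h j * (φ (b i i)).coeff 0 = h i * (φ (b i j)).coeff 0 := by
    intro j
    have h0 : h j * b i i = h i * b i j := by
      refine hι (mul_left_cancel₀ hs'0 ?_)
      rw [map_mul, map_mul]
      linear_combination (ι' (h i)) * hb i j - (ι' (h j)) * hb i i
    have := congrArg (fun r => (φ r).coeff (0 + e)) h0
    simp only [map_mul, h, hhom] at this
    rwa [mul_assoc, mul_assoc, mul_comm (X ^ e : A[X]), mul_comm (X ^ e : A[X]), Polynomial.coeff_C_mul,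
      Polynomial.coeff_C_mul, Polynomial.coeff_mul_X_pow, Polynomial.coeff_mul_X_pow] at this
  choose v hv using fun j => hi.dvd (a := (φ (b i j)).coeff 0)
  have hgen : ∀ j, h j = h i * v j := fun j => hi.mul_right_cancel (by rw [hcross, hv]; ring)
  obtain ⟨Q, hQg, hQf⟩ := hd _ (hlamA i 0)
  refine ⟨∑ n, (Q n).eval 1 * l n, L.sum_mem fun n _ => L.mul_mem_left _ (hlm n), le_antisymm ?_ ?_⟩
  · have hln : ∀ n, l n ∈ Ideal.span {∑ n, (Q n).eval 1 * l n} := by
      intro n
      refine Ideal.mem_span_singleton.2 ⟨∑ m, (P n m).coeff 0 * v m, hι ?_⟩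
      rw [map_mul, ← hQf]
      have h2 := hPg n
      have h3 : ∑ m, (P n m).coeff 0 * h m = h i * ∑ m, (P n m).coeff 0 * v m := by
        rw [Finset.mul_sum]
        exact Finset.sum_congr rfl fun m _ => by rw [hgen m]; ring
      rw [h3, map_mul, hh] at h2
      have h4 : ι' (l n) / f1 = (lam i).coeff 0 * ι' (∑ m, (P n m).coeff 0 * v m) :=
        mul_right_cancel₀ hg0 (by rw [h2]; ring)
      rw [div_eq_iff hf10] at h4
      rw [h4]; ring
    intro x hx
    rw [show x = ∑ n, w n ⟨x, hx⟩ * l n from hexp ⟨x, hx⟩]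
    exact Ideal.sum_mem _ fun n _ => Ideal.mul_mem_left _ _ (hln n)
  · rw [Ideal.span_singleton_le_iff_mem]
    exact L.sum_mem fun n _ => L.mul_mem_left _ (hlm n)

/-- Invertible modules are free. -/
theorem free_of_invertible (φ : A →+* A[X]) (h1 : ∀ a, (φ a).eval 1 = a)
    (hunit : ∀ a, (φ a).coeff 0 = 0 ∨ IsUnit ((φ a).coeff 0))
    (hhom : ∀ a i, φ ((φ a).coeff i) = C ((φ a).coeff i) * X ^ i)
    (M : Type u) [AddCommGroup M] [Module A M] [Module.Invertible A M] : Module.Free A M := by
  obtain ⟨L, ⟨eL⟩⟩ := Module.Invertible.exists_linearEquiv_ideal A M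
  haveI : Module.Projective A L := Module.Projective.of_equiv eL
  haveI : Module.Finite A L := Module.Finite.equiv eL
  obtain ⟨x, -, hx⟩ := exists_span_singleton φ h1 hunit hhom L
  rcases eq_or_ne x 0 with rfl | hx0
  · rw [Ideal.span_singleton_eq_bot.2 rfl] at hx
    subst hx
    exact Module.Free.of_equiv eL.symm
  · have e : ↥(Ideal.span {x} : Ideal A) ≃ₗ[A] M := (LinearEquiv.ofEq _ L hx.symm).trans eL.symm
    exact Module.Free.of_equiv ((LinearEquiv.toSpanNonzeroSingleton A A x hx0).trans e)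

end Main

end PicCone27
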